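import Mathlib.AlgebraicGeometry.Morphisms.FiniteType
import Mathlib.AlgebraicGeometry.Morphisms.Separated
import Mathlib.AlgebraicGeometry.FunctionField
import Mathlib.CategoryTheory.Endomorphism
import Groth.Agent.Lib.Helper6.IrrFib.Main

set_option linter.unusedSectionVars false
set_option linter.unusedVariables false
set_option linter.unusedSimpArgs false
set_option autoImplicit false
set_option linter.style.haveILetI false
set_option maxHeartbeats 400000

/-!
# A faithful action of a finite group on an integral separated scheme is almost free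
-/

namespace Groth.Agent.Helper6.AlmostFreeLib

open AlgebraicGeometry CategoryTheory Limits

universe u

variable {S X : Scheme.{u}} (f : X ⟶ S)

/-- an automorphism over the base, as an endomorphism of the object over the base -/
noncomputable def a (φ : Aut X) (hφ : φ.hom ≫ f = f) : Over.mk f ⟶ Over.mk f :=
  Over.homMk φ.hom hφ

/-- the inclusion of the fixed locus of an automorphism -/
noncomputable def e (φ : Aut X) (hφ : φ.hom ≫ f = f) :
    (equalizer (a f φ hφ) (𝟙 (Over.mk f))).left ⟶ X :=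
  (equalizer.ι (a f φ hφ) (𝟙 (Over.mk f))).left

lemma e_cond (φ : Aut X) (hφ : φ.hom ≫ f = f) : e f φ hφ ≫ φ.hom = e f φ hφ := by
  have := congr($(equalizer.condition (a f φ hφ) (𝟙 (Over.mk f))).left)
  simpa [e, a] using this

instance [IsSeparated f] (φ : Aut X) (hφ : φ.hom ≫ f = f) : IsClosedImmersion (e f φ hφ) := by
  haveI : IsSeparated (Over.mk f).hom := ‹_›
  exact isClosedImmersion_equalizer_ι_left _ _

/-- the fixed locus, as a set -/
def C (φ : Aut X) (hφ : φ.hom ≫ f = f) : Set X := Set.range (e f φ hφ).base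

lemma isClosed_C [IsSeparated f] (φ : Aut X) (hφ : φ.hom ≫ f = f) : IsClosed (C f φ hφ) :=
  (e f φ hφ).isClosedEmbedding.isClosed_range

/-- a point through which a morphism equalised by `φ` factors lies in the fixed locus -/
lemma mem_C_of_comp_eq (φ : Aut X) (hφ : φ.hom ≫ f = f) {T : Scheme.{u}} (x : T ⟶ X)
    (hx : x ≫ φ.hom = x) (t : T) : x.base t ∈ C f φ hφ := by
  let x' : Over.mk (x ≫ f) ⟶ Over.mk f := Over.homMk x rfl
  have hx' : x' ≫ a f φ hφ = x' ≫ 𝟙 (Over.mk f) := by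
    ext1
    simpa [x', a] using hx
  let l := equalizer.lift x' hx'
  have hl : l.left ≫ e f φ hφ = x := congr($(equalizer.lift_ι x' hx').left)
  refine ⟨l.left.base t, ?_⟩
  have := congrArg (fun m : T ⟶ X => m.base t) hl
  exact this

lemma C_ne_univ [IsSeparated f] [IsReduced X] (φ : Aut X) (hφ : φ.hom ≫ f = f) (h1 : φ ≠ 1) :
    C f φ hφ ≠ Set.univ := by
  intro h
  haveI : Surjective (e f φ hφ) := ⟨Set.range_eq_univ.mp h⟩
  haveI := isIso_of_isClosedImmersion_of_surjective (e f φ hφ)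
  apply h1
  have hc := e_cond f φ hφ
  have h2 : φ.hom = 𝟙 X := by
    rw [← cancel_epi (e f φ hφ), hc, Category.comp_id]
  exact Iso.ext h2

section Action

variable {G : Type*} [Group G] (ρ : G →* Aut X) (hρ : ∀ g : G, (ρ g).hom ≫ f = f)

include hρ in
lemma conj_mem (g h : G) (x : X) (hx : x ∈ C f (ρ g) (hρ g)) :
    (ρ h).hom.base x ∈ C f (ρ (h * g * h⁻¹)) (hρ _) := by
  obtain ⟨y, rfl⟩ := hx
  have key : (e f (ρ g) (hρ g) ≫ (ρ h).hom) ≫ (ρ (h * g * h⁻¹)).hom =
      e f (ρ g) (hρ g) ≫ (ρ h).hom := by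
    have h1 : (ρ (h * g * h⁻¹)).hom = (ρ h).inv ≫ (ρ g).hom ≫ (ρ h).hom := by
      rw [map_mul, map_mul, map_inv]
      rfl
    have h2 : (ρ h).hom ≫ (ρ h).inv = 𝟙 X := Iso.hom_inv_id _
    rw [h1]
    calc (e f (ρ g) (hρ g) ≫ (ρ h).hom) ≫ ((ρ h).inv ≫ (ρ g).hom ≫ (ρ h).hom)
        = e f (ρ g) (hρ g) ≫ ((ρ h).hom ≫ (ρ h).inv) ≫ (ρ g).hom ≫ (ρ h).hom := by
          simp only [Category.assoc]
      _ = (e f (ρ g) (hρ g) ≫ (ρ g).hom) ≫ (ρ h).hom := by
          rw [h2, Category.id_comp, Category.assoc]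
      _ = e f (ρ g) (hρ g) ≫ (ρ h).hom := by rw [e_cond]
  exact mem_C_of_comp_eq f (ρ (h * g * h⁻¹)) (hρ _) (e f (ρ g) (hρ g) ≫ (ρ h).hom) key y

include hρ in
theorem almost_free [Finite G] [IsIntegral X] [IsSeparated f]
    (hfaith : Function.Injective ρ) :
    ∃ U : X.Opens, (U : Set X).Nonempty ∧ (∀ g : G, (ρ g).hom ⁻¹ᵁ U = U) ∧
      ∀ (T : Scheme.{u}) [Nonempty T] (x : T ⟶ X),
        Set.range x.base ⊆ (U : Set X) → ∀ g : G, x ≫ (ρ g).hom = x → g = 1 := by
  classical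
  have hclosed : IsClosed (⋃ g ∈ {g : G | g ≠ 1}, C f (ρ g) (hρ g)) :=
    Set.Finite.isClosed_biUnion (Set.toFinite _) (fun g _ => isClosed_C f _ _)
  let U : X.Opens := ⟨(⋃ g ∈ {g : G | g ≠ 1}, C f (ρ g) (hρ g))ᶜ, hclosed.isOpen_compl⟩
  have hUmem : ∀ x : X, x ∈ U ↔ ∀ g : G, g ≠ 1 → x ∉ C f (ρ g) (hρ g) := by
    intro x
    show x ∈ (⋃ g ∈ {g : G | g ≠ 1}, C f (ρ g) (hρ g))ᶜ ↔ _
    simp
  refine ⟨U, ?_, ?_, ?_⟩
  · -- nonempty
    have h1 : (⋂ g ∈ {g : G | g ≠ 1}, (C f (ρ g) (hρ g))ᶜ).Nonempty := by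
      refine Groth.Agent.Helper6.IrrFibLib.nonempty_biInter_of_finite _ (Set.toFinite _) _
        (fun g _ => (isClosed_C f _ _).isOpen_compl) (fun g hg => ?_)
      rw [Set.nonempty_compl]
      exact C_ne_univ f _ _ (fun h => hg (hfaith (by rw [h, map_one])))
    obtain ⟨x, hx⟩ := h1
    refine ⟨x, ?_⟩
    show x ∈ U
    rw [hUmem]
    intro g hg
    exact Set.mem_iInter₂.mp hx g hg
  · -- stability
    intro h
    ext x
    show (ρ h).hom.base x ∈ U ↔ x ∈ U
    rw [hUmem, hUmem]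
    constructor
    · intro H g hg hxg
      have h1 := conj_mem f ρ hρ g h x hxg
      refine H (h * g * h⁻¹) ?_ h1
      intro h2
      apply hg
      have : g = h⁻¹ * (h * g * h⁻¹) * h := by group
      rw [this, h2]; group
    · intro H g hg hxg
      have h1 := conj_mem f ρ hρ g h⁻¹ _ hxg
      have h2 : (ρ h⁻¹).hom.base ((ρ h).hom.base x) = x := by
        have : (ρ h).hom ≫ (ρ h⁻¹).hom = 𝟙 X := by
          rw [map_inv]
          exact Iso.hom_inv_id _
        exact congrArg (fun m : X ⟶ X => m.base x) this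
      rw [h2] at h1
      refine H (h⁻¹ * g * h⁻¹⁻¹) ?_ h1
      intro h3
      apply hg
      have : g = h * (h⁻¹ * g * h⁻¹⁻¹) * h⁻¹ := by group
      rw [this, h3]; group
  · intro T _ x hxU g hg
    by_contra hne
    obtain ⟨t⟩ := ‹Nonempty T›
    have h1 : x.base t ∈ C f (ρ g) (hρ g) := mem_C_of_comp_eq f _ _ x hg t
    have h2 : x.base t ∈ U := hxU ⟨t, rfl⟩
    rw [hUmem] at h2
    exact h2 g hne h1

end Action

end Groth.Agent.Helper6.AlmostFreeLib
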